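import Cfsg.Agent.Lib.EqualDegree.Corner
import Cfsg.Agent.Lib.Blocks.CyclicNilpotent
import Cfsg.Agent.Lib.Blocks.HeightZero
import Cfsg.Agent.Lib.Blocks12.RankOne
import Cfsg.Agent.Lib.BrauerPairs.Nilpotent

/-!
# The Brauer map is injective on the centre of the block, so the inertial group is trivial
-/

set_option autoImplicit false
set_option linter.unusedSectionVars false
set_option linter.style.haveILetI false
set_option maxSynthPendingDepth 3
set_option maxHeartbeats 1000000

namespace CfsgLib.EqualDegree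

open Cfsg MonoidAlgebra CfsgLib.Blocks CfsgLib.BrauerPairs CfsgLib.Characters CfsgLib.ModRep
  CfsgLib.TwoChars

universe u

variable {G : Type u} [Group G] [Fintype G] {p : ℕ} [hp : Fact p.Prime] {M : Ideal AlgInt}
  [M.IsMaximal] {B : Set (IrrCharacter G)} {hM : IsPModular p M} {S : Sys (ResK M) G}
  {i : Fin S.s} {D : Subgroup G}

theorem mem_center_of_comm {k : Type*} [Field k] {H : Type*} [Group H]
    {z : MonoidAlgebra k H} (h : ∀ x, z * x = x * z) :
    z ∈ Subalgebra.center k (MonoidAlgebra k H) :=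
  Subalgebra.mem_center_iff.2 fun x => (h x).symm

namespace Data

variable (hd : Data hM S B i)
include hd

/-- Some `p`-regular element centralising `D` has nonzero trace on the simple module. -/
theorem exists_trace_ne_zero (hD : IsDefectGroup p M B D)
    (h0 : ∀ χ : IrrCharacter G, χ ∈ B → blockHeight p B (χ : G → ℂ) = 0) :
    ∃ y ∈ cz D, (S.π (single y 1) i).trace ≠ 0 := by
  classical
  obtain ⟨y, hy, P, rfl⟩ := hD
  refine ⟨y, mem_cz.2 fun q hq => ?_, ?_⟩
  · obtain ⟨q', -, rfl⟩ := hq
    exact Subgroup.mem_centralizer_singleton_iff.1 q'.2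
  obtain ⟨χ, hχ⟩ := IsPBlock.nonempty hM hd.block
  have hyr := not_dvd_orderOf_of_isDefectClass hM hd.block hy
  have hu := not_memLocalIdeal_apply_mul hM hd.block hy (x := 1) (Commute.one_left y)
    ⟨0, by rw [orderOf_one, pow_zero]⟩ hχ (h0 χ hχ)
  rw [one_mul] at hu
  have hval : modChar hM (S.rep i) y = (χ : G → ℂ) y := by
    rw [← hd.part χ hχ, pRegularPart, if_pos (show IsPRegular p y from hyr)]
  intro h
  apply hu
  rw [← hval]
  refine (resK_eq_zero_iff hM ⟨_, modChar_mem (S.rep i) y⟩).1 ?_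
  rw [resK_modChar (hM := hM) (S.rep i) hyr]
  show LinearMap.trace (ResK M) _ (Matrix.toLin' (S.π (single y 1) i)) = 0
  rw [Matrix.trace_toLin'_eq, h]

/-- The Brauer map has no kernel on the centre of the block. -/
theorem eq_zero_of_brMap (hD : IsDefectGroup p M B D)
    (h0 : ∀ χ : IrrCharacter G, χ ∈ B → blockHeight p B (χ : G → ℂ) = 0) :
    ∀ z : MonoidAlgebra (ResK M) G, (∀ x, z * x = x * z) → eG hM B * z = z →
      brMap (ResK M) D z = 0 → z = 0 := by
  classical
  have := charP_res (M := M) hM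
  haveI : Fintype (ConjClasses G) := Fintype.ofFinite _
  have hDd := (isDefectGroup_iff hM hd.block D).1 hD
  obtain ⟨y, hyD, hy⟩ := hd.exists_trace_ne_zero hD h0
  suffices h : ∀ (n : ℕ) (z : MonoidAlgebra (ResK M) G),
      Module.finrank (ResK M) (LinearMap.range ((LinearMap.mulLeft (ResK M) z).comp
        (classElt (G := G) (ResK M)))) = n → (∀ x, z * x = x * z) → eG hM B * z = z →
      brMap (ResK M) D z = 0 → z = 0 from fun z => h _ z rfl
  intro n
  induction n using Nat.strong_induction_on with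
  | _ n ih =>
  intro z hn hzc hze hzbr
  have hfixc : ∀ w : MonoidAlgebra (ResK M) G, (∀ x, w * x = x * w) →
      w ∈ fixAlg (ResK M) D := fun w hw g _ => by
    rw [conjA, ← hw (single g 1), mul_assoc, single_mul_single_inv, mul_one]
  by_cases hkill : ∀ w : MonoidAlgebra (ResK M) G, (∀ x, w * x = x * w) → IsNilpotent w → z * w = 0
  · have hc : ∀ g, z.coeff g = (S.π (single g⁻¹ 1) i).trace *
        (z * ModRep.red hM (primIdem hM S i)).coeff 1 := hd.coeff_eq_trace hzc hze hkill
    have h1 := hc y⁻¹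
    rw [← coeff_brMap_of_mem z (Subgroup.inv_mem _ hyD), hzbr, inv_inv, coeff_zero,
      Finsupp.zero_apply] at h1
    have h2 := (mul_eq_zero.1 h1.symm).resolve_left hy
    ext g
    rw [hc g, h2, mul_zero]
    simp
  push Not at hkill
  obtain ⟨w, hwc, hwn, hzw⟩ := hkill
  exfalso
  apply hzw
  have hzwc : ∀ x, z * w * x = x * (z * w) := fun x => by
    rw [mul_assoc, hwc, ← mul_assoc, hzc, mul_assoc]
  refine ih _ ?_ (z * w) rfl hzwc (by rw [← mul_assoc, hze]) ?_
  swap
  · rw [brMap_mul hDd.pgroup (hfixc z hzc) (hfixc w hwc), hzbr, zero_mul]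
  rw [← hn]
  refine Submodule.finrank_lt_finrank_of_lt (lt_of_le_of_ne ?_ ?_)
  · rintro _ ⟨v, rfl⟩
    obtain ⟨v', hv'⟩ := exists_classElt (Subalgebra.mul_mem _ (mem_center_of_comm hwc)
      (classElt_mem_center v))
    refine ⟨v', ?_⟩
    simp only [LinearMap.comp_apply, LinearMap.mulLeft_apply, hv', mul_assoc]
  · intro heq
    obtain ⟨v₀, hv₀⟩ := exists_classElt (Subalgebra.one_mem (Subalgebra.center (ResK M)
      (MonoidAlgebra (ResK M) G)))
    have hmem : z ∈ LinearMap.range ((LinearMap.mulLeft (ResK M) z).comp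
        (classElt (G := G) (ResK M))) := ⟨v₀, by simp [hv₀]⟩
    rw [← heq] at hmem
    obtain ⟨v, hv⟩ := hmem
    simp only [LinearMap.comp_apply, LinearMap.mulLeft_apply] at hv
    have hz0 : z = 0 := eq_zero_of_nilpotent_mul
      (Commute.isNilpotent_mul_right (x := w) (y := classElt (ResK M) v) (hwc _) hwn)
      (by rw [← hzc (w * _), ← mul_assoc, hv])
    exact hzw (by rw [hz0, zero_mul])

end Data

/-- A block with central defect group `D` has at most `|D|` members. -/
theorem card_le_of_rank_one (hM : IsPModular p M) (hB : IsPBlock M B) (hl : blockRank p B = 1) :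
    Nat.card B ≤ p ^ blockDefect p B := by
  classical
  haveI : Fintype (ConjClasses G) := Fintype.ofFinite _
  obtain ⟨f, d, hval, hsum⟩ := Contribution.rank_one_structure hM hB hl
  rw [← hsum, Contribution.card_members, Finset.card_eq_sum_ones]
  refine Finset.sum_le_sum fun χ hχ => Nat.one_le_pow _ _ (Nat.pos_of_ne_zero fun h => ?_)
  have h1 := hval χ (Contribution.mem_members.1 hχ) 1 (by
    show ¬ p ∣ orderOf (1 : G); rw [orderOf_one]; exact hp.out.not_dvd_one)
  rw [h, Nat.cast_zero, zero_mul] at h1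
  exact irr_one_ne_zero χ h1

namespace Data

variable (hd : Data hM S B i)
include hd

/-- The inertial group of a maximal pair centralises the defect group. -/
theorem mem_cz_of_stab (hD : IsDefectGroup p M B D) (hab : D ≤ cz D)
    (h0 : ∀ χ : IrrCharacter G, χ ∈ B → blockHeight p B (χ : G → ℂ) = 0)
    {e : Set (IrrCharacter (cz D))} (he : IsPBlock M e)
    (hcov : brMap (ResK M) D (eG hM B) * eA hM (cz D) e = eA hM (cz D) e)
    {t : G} (htN : t ∈ Subgroup.normalizer (D : Set G))
    (hte : conjA t (eA hM (cz D) e) = eA hM (cz D) e) : t ∈ cz D := by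
  classical
  have := charP_res (M := M) hM
  letI : ∀ K : Subgroup G, Fintype K := fun K => Fintype.ofFinite K
  haveI : Fintype (ConjClasses G) := Fintype.ofFinite _
  haveI : Fintype (ConjClasses (cz D)) := Fintype.ofFinite _
  have hB := hd.block
  have hDd := (isDefectGroup_iff hM hB D).1 hD
  set k := ResK M
  set ê := eA hM (cz D) e with hê
  have hbi : IsBlockIdem (cz D) ê := isBlockIdem_eA hM he
  -- the local block
  obtain ⟨f, hf, hle, -, -, -, hfD, -⟩ :=
    CyclicDefectBound.exists_local_block (Q := D) (K := cz D) hM hB hD hab hbi hcov le_rfl rfl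
  obtain rfl : f = e := eA_inj hM hf he (congrArg Prod.snd (hle.snd_eq rfl) :)
  set Z := D.subgroupOf (cz D)
  have hZc : Z ≤ Subgroup.center (cz D) := fun z hz => Subgroup.mem_center_iff.2 fun h =>
    Subtype.ext (mem_cz.1 h.2 z (Subgroup.mem_subgroupOf.1 hz)).symm
  have hl := (CyclicDefectBound.exists_base hM (hDd.pgroup.comap_subtype) hZc hf hfD).1
  have hcard : Nat.card f ≤ Nat.card D := by
    rw [← Nat.card_congr (Subgroup.subgroupOfEquivOfLe hab).toEquiv,
      BlockCover.natCard_defect hM hf hfD]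
    exact card_le_of_rank_one hM hf hl
  -- the map
  have hfixc : ∀ {w : MonoidAlgebra k G}, (∀ x, w * x = x * w) →
      ∀ H : Subgroup G, w ∈ fixAlg k H := fun {w} hw H g _ => by
    rw [conjA, ← hw (single g 1), mul_assoc, single_mul_single_inv, mul_one]
  set V := LinearMap.range ((LinearMap.mulLeft k (eG hM B)).comp (classElt (G := G) k))
  have hV : ∀ z ∈ V, (∀ x, z * x = x * z) ∧ eG hM B * z = z := by
    rintro _ ⟨v, rfl⟩
    simp only [LinearMap.comp_apply, LinearMap.mulLeft_apply]
    have hc := Subalgebra.mem_center_iff.1 (classElt_mem_center (G := G) (F := k) v)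
    exact ⟨fun x => by rw [mul_assoc, ← hc, ← mul_assoc, hd.e_comm, mul_assoc],
      by rw [← mul_assoc, hd.e_idem]⟩
  set Ψ : MonoidAlgebra k G →ₗ[k] MonoidAlgebra k G :=
    (LinearMap.mulRight k ê).comp (brMap k D) with hΨ
  have hΨa : ∀ z, Ψ z = brMap k D z * ê := fun z => rfl
  have hinj : ∀ z ∈ V, Ψ z = 0 → z = 0 := by
    intro z hz h
    obtain ⟨hzc, hze⟩ := hV z hz
    refine hd.eq_zero_of_brMap hD h0 z hzc hze ?_
    obtain ⟨s, hs, hsum⟩ := hasBlocks (G := G) hM (cz D)
    set E := brMap k D (eG hM B) with hE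
    have hEc : ∀ w : MonoidAlgebra k G, (∀ x, w * x = x * w) →
        brMap k D w ∈ fixAlg k (Subgroup.normalizer (D : Set G)) := fun w hw =>
      brMap_mem_fixAlg le_rfl (hfixc hw _)
    have hEE : E * E = E := by
      rw [hE, ← brMap_mul hDd.pgroup (hfixc hd.e_comm _) (hfixc hd.e_comm _), hd.e_idem]
    have hzE : brMap k D z = brMap k D z * E := by
      rw [hE, ← brMap_mul hDd.pgroup (hfixc hzc _) (hfixc hd.e_comm _), hzc, hze]
    rw [hzE, ← mul_one (brMap k D z * E), ← hsum, Finset.mul_sum]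
    refine Finset.sum_eq_zero fun g hg => ?_
    rw [mul_assoc]
    rcases (hs g hg).mul_idem (brMap_mem_suppAlg D _)
        (fixAlg_anti (cz_le_normalizer D) (hEc _ hd.e_comm)) hEE with h1 | h1
    · rw [hE, h1, mul_zero]
    · rw [hE, h1]
      obtain ⟨t', ht', hte'⟩ := (brSetup_block hM hB).exists_conj_eq hDd
        ⟨hDd.pgroup, bot_le, le_top, hbi, hcov⟩ ⟨hDd.pgroup, bot_le, le_top, hs g hg, h1⟩
      have h2 := congrArg (conjA t') h
      rwa [hΨa, conjA_mul, hEc z hzc t' ht'.2, hte', conjA_zero] at h2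
  -- the target
  set b := eG hM f with hb
  have hbidem : b * b = b := (isBlockIdem_eG hM hf).idem
  set W := (LinearMap.range ((LinearMap.mulLeft k b).comp (classElt (G := cz D) k))).map
    (inclA k (cz D)).toLinearMap with hW
  have hmemW : ∀ a : MonoidAlgebra k G, a ∈ suppAlg k (cz D) → a ∈ fixAlg k (cz D) →
      ê * a = a → a ∈ W := by
    intro a has haf hea
    have hc : restrA k (cz D) a ∈ Subalgebra.center k (MonoidAlgebra k (cz D)) := by
      rw [mem_center_iff_coeff]
      have h1 := (inclA_mem_fixAlg_iff (restrA k (cz D) a)).1 (by rw [inclA_restrA has]; exact haf)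
      exact fun g h => mem_fixAlg_iff_coeff.1 h1 h trivial g
    obtain ⟨v, hv⟩ := exists_classElt hc
    refine ⟨_, ⟨v, rfl⟩, ?_⟩
    simp only [LinearMap.comp_apply, LinearMap.mulLeft_apply, AlgHom.toLinearMap_apply, hv, map_mul,
      inclA_restrA has]
    rw [show inclA k (cz D) b = ê from inclA_eG hM (cz D) f]
    exact hea
  have hWcard : Module.finrank k W ≤ Nat.card D := by
    refine le_trans (Submodule.finrank_map_le _ _) ?_
    rw [hb, finrank_residue hM hf]
    exact hcard
  have hVW : V.map Ψ ≤ W := by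
    rintro _ ⟨z, hz, rfl⟩
    obtain ⟨hzc, hze⟩ := hV z hz
    refine hmemW _ (Subalgebra.mul_mem _ (brMap_mem_suppAlg D z) hbi.supp)
      (Subalgebra.mul_mem _ (brMap_mem_fixAlg_cz (hfixc hzc _)) hbi.fixed) ?_
    rw [hΨa, ← mul_assoc, (commute_of_supp_fix hbi.supp (brMap_mem_fixAlg_cz (hfixc hzc _))).eq,
      mul_assoc, hbi.idem]
  have hVcard : Module.finrank k (V.map Ψ) = Nat.card D := by
    have h1 : Module.finrank k (V.map Ψ) = Module.finrank k V := by
      refine (LinearEquiv.finrank_eq ?_).symm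
      refine LinearEquiv.ofBijective ((Ψ.comp V.subtype).codRestrict (V.map Ψ) fun z => Submodule.mem_map_of_mem z.2)
        ⟨(injective_iff_map_eq_zero _).2 fun z hz =>
          Subtype.ext (hinj z z.2 (congrArg Subtype.val hz)), ?_⟩
      rintro ⟨_, z, hz, rfl⟩
      exact ⟨⟨z, hz⟩, rfl⟩
    rw [h1, finrank_residue hM hB, hd.card, BlockCover.natCard_defect hM hB hD]
  have hWeq : V.map Ψ = W := Submodule.eq_of_le_of_finrank_le hVW (hVcard ▸ hWcard)
  refine mem_cz.2 fun u hu => ?_
  -- the element `u` times the idempotent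
  have hus : single u (1 : k) ∈ suppAlg k (cz D) := single_mem_suppAlg (hab hu) 1
  have huf : single u (1 : k) ∈ fixAlg k (cz D) := fun c hc => by
    rw [conjA, single_mul_single, single_mul_single, mul_one, mul_one,
      ← mem_cz.1 hc u hu, mul_inv_cancel_right]
  have hmem : single u (1 : k) * ê ∈ V.map Ψ := by
    rw [hWeq]
    refine hmemW _ (Subalgebra.mul_mem _ hus hbi.supp) (Subalgebra.mul_mem _ huf hbi.fixed) ?_
    rw [← mul_assoc, (commute_of_supp_fix hbi.supp huf).eq, mul_assoc, hbi.idem]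
  obtain ⟨z, hz, hzu⟩ := hmem
  have hconj : conjA t (single u (1 : k) * ê) = single u (1 : k) * ê := by
    rw [← hzu, hΨa, conjA_mul, hte, brMap_mem_fixAlg le_rfl (hfixc (hV z hz).1 _) t htN]
  rw [conjA_mul, hte, conjA, single_mul_single, single_mul_single, mul_one, mul_one] at hconj
  set v := u⁻¹ * (t * u * t⁻¹) with hv
  have hvD : v ∈ D := D.mul_mem (D.inv_mem hu) ((htN u).1 hu)
  have hve : single v (1 : k) * ê = ê := by
    calc single v (1 : k) * ê = single u⁻¹ (1 : k) * (single (t * u * t⁻¹) (1 : k) * ê) := by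
          rw [← mul_assoc, single_mul_single, mul_one]
      _ = ê := by rw [hconj, ← mul_assoc, single_inv_mul_single, one_mul]
  have hv1 : v = 1 := by
    obtain ⟨x, hx⟩ : ∃ x, ê.coeff x ≠ 0 := by
      by_contra h
      push Not at h
      apply hbi.ne_zero
      ext x
      simpa using h x
    have hsupp : ∀ y, ê.coeff y ≠ 0 → y ∈ cz D ∧ ¬ p ∣ orderOf y := by
      intro y hy
      have hyK := hbi.supp y hy
      refine ⟨hyK, fun hsing => hy ?_⟩
      rw [hê, eA, coeff_redFun hM (subgroupBlockCoeff_mem hM hf y)]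
      have h1 : subgroupBlockCoeff (cz D) f y = 0 :=
        (subgroupBlockCoeff_coe (cz D) f ⟨y, hyK⟩).trans
          (blockCoeff_eq_zero_of_singular hM hf (by rwa [← Subgroup.orderOf_coe]))
      simp only [h1]
      exact map_zero (resK hM)
    obtain ⟨hxK, hxr⟩ := hsupp x hx
    obtain ⟨-, hvxr⟩ := hsupp (v * x) (by
      rw [← hve, coeff_single_mul_apply, inv_mul_cancel_left, one_mul]
      exact hx)
    have hvp : ∃ n : ℕ, orderOf v = p ^ n := by
      simpa using IsPGroup.iff_orderOf.1 hDd.pgroup ⟨v, hvD⟩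
    have e1 := isPPart_mul (mem_cz.1 hxK v hvD) hvp hxr
    have e2 := isPPart_mul (Commute.one_left (v * x)) ⟨0, by rw [orderOf_one, pow_zero]⟩ hvxr
    rw [one_mul] at e2
    exact IsPPart.unique hM.1 e1 e2
  rw [hv, inv_mul_eq_one] at hv1
  exact eq_mul_inv_iff_mul_eq.1 hv1

end Data

end CfsgLib.EqualDegree
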