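import Cfsg.Agent.Lib.EqualDegree.Degrees
import Cfsg.Agent.Lib.TwoChars.Center

/-!
# The corner of the block is commutative and the block is a matrix algebra over it
-/

set_option autoImplicit false
set_option linter.unusedSectionVars false
set_option linter.style.haveILetI false
set_option maxHeartbeats 1000000

namespace CfsgLib.EqualDegree

open Cfsg MonoidAlgebra CfsgLib.Blocks CfsgLib.BrauerPairs CfsgLib.Characters CfsgLib.ModRep

universe u

variable {G : Type u} [Group G] [Fintype G] {p : ℕ} [hp : Fact p.Prime] {M : Ideal AlgInt}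
  [M.IsMaximal] {B : Set (IrrCharacter G)} {hM : IsPModular p M} {S : Sys (ResK M) G}
  {i : Fin S.s}

/-- An element killed by all irreducible representations is zero. -/
theorem eq_zero_of_omega {x : MonoidAlgebra ℂ G}
    (h : ∀ (χ : IrrCharacter G) (y : MonoidAlgebra ℂ G), omega (χ : G → ℂ) (x * y) = 0) :
    x = 0 := by
  classical
  ext g
  have h1 := coeff_one_eq (x * single g⁻¹ 1)
  simp only [h, mul_zero, Finset.sum_const_zero, coeff_mul_single_apply, inv_inv, one_mul,
    mul_one] at h1
  simpa using h1

/-- An idempotent of rank at most one has a one-dimensional corner. -/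
theorem exists_sandwich {K : Type*} [Field K] {V : Type*} [AddCommGroup V] [Module K V]
    [FiniteDimensional K V] {P : Module.End K V} (hP : P * P = P)
    (h : Module.finrank K (LinearMap.range P) ≤ 1) (A : Module.End K V) :
    ∃ t : K, P * A * P = t • P := by
  obtain ⟨v, hv⟩ := finrank_le_one_iff.1 h
  obtain ⟨t, ht⟩ := hv ⟨P (A (v : V)), LinearMap.mem_range_self P _⟩
  refine ⟨t, LinearMap.ext fun w => ?_⟩
  obtain ⟨s, hs⟩ := hv ⟨P w, LinearMap.mem_range_self P w⟩
  have hs' : s • (v : V) = P w := congrArg Subtype.val hs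
  have ht' : t • (v : V) = P (A (v : V)) := congrArg Subtype.val ht
  rw [Module.End.mul_apply, Module.End.mul_apply, LinearMap.smul_apply, ← hs', map_smul, map_smul,
    ← ht', smul_comm]

theorem omega_trace {n : ℕ} (ρ : Representation ℂ G (Fin n → ℂ)) (w : MonoidAlgebra ℂ G) :
    omega ρ.character w = LinearMap.trace ℂ (Fin n → ℂ) (ρ.asAlgebraHom w) / ρ.character 1 := by
  rw [omega_apply, asAlgebraHom_eq_sum, map_sum]
  exact congrArg (· / _) (Finset.sum_congr rfl fun x _ => by rw [map_smul, smul_eq_mul]; rfl)

theorem single_corner {K n : Type*} [Field K] [Fintype n] [DecidableEq n] (o : n) (X : Matrix n n K) :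
    Matrix.single o o (1 : K) * X * Matrix.single o o (1 : K) =
      X o o • Matrix.single o o (1 : K) := by
  ext b b'
  by_cases h1 : o = b <;> by_cases h2 : o = b' <;>
    simp [Matrix.mul_apply, Matrix.single_apply, ite_and, h1, h2]

namespace Data

variable (hd : Data hM S B i)
include hd

theorem mem_idx : i ∈ blockIdx S hM B := by
  rw [hd.idx]; exact Set.mem_singleton i

theorem decomp_le_one (χ : IrrCharacter G) : decomp hM S χ i ≤ 1 := by
  by_cases hχ : χ ∈ B
  · rw [hd.decomp_eq_one χ hχ]
  · rw [decomp_eq_zero hM S hd.block fun h => hχ (h.2 hd.mem_idx)]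
    exact Nat.zero_le 1

theorem corner_comm (a b : MonoidAlgebra ℂ G) :
    primIdem hM S i * a * primIdem hM S i * b * primIdem hM S i =
      primIdem hM S i * b * primIdem hM S i * a * primIdem hM S i := by
  rw [← sub_eq_zero]
  refine eq_zero_of_omega fun χ y => ?_
  have hrank := hd.decomp_le_one χ
  have hdec := decomp_eq hM S χ i
  set E := primIdem hM S i with hE
  obtain ⟨_, n, ρ, hρ, rfl⟩ := χ
  change omega ρ.character _ = 0
  set P := ρ.asAlgebraHom E with hPdef
  have hPP : P * P = P := by rw [hPdef, ← map_mul, hE, primIdem_idem]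
  have hP1 : Module.finrank ℂ (LinearMap.range P) ≤ 1 := by
    have hproj : LinearMap.IsProj (LinearMap.range P) P := by
      refine ⟨fun v => LinearMap.mem_range_self _ v, ?_⟩
      rintro _ ⟨w, rfl⟩
      rw [← Module.End.mul_apply, hPP]
    have h0 : ρ.character 1 ≠ 0 :=
      irr_one_ne_zero (⟨ρ.character, n, ρ, hρ, rfl⟩ : IrrCharacter G)
    rw [show ((⟨ρ.character, n, ρ, hρ, rfl⟩ : IrrCharacter G) : G → ℂ) = ρ.character from rfl,
      omega_trace, mul_div_cancel₀ _ h0, hproj.trace, Nat.cast_inj] at hdec
    exact hdec ▸ hrank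
  obtain ⟨s, hs⟩ := exists_sandwich hPP hP1 (ρ.asAlgebraHom a)
  obtain ⟨t, ht⟩ := exists_sandwich hPP hP1 (ρ.asAlgebraHom b)
  have key : ρ.asAlgebraHom (E * a * E * b * E - E * b * E * a * E) = 0 := by
    simp only [map_sub, map_mul, ← hPdef]
    rw [hs, ht, smul_mul_assoc, smul_mul_assoc, smul_mul_assoc, smul_mul_assoc, ht, hs, smul_smul,
      smul_smul, mul_comm, sub_self]
  rw [omega_trace, map_mul, key, zero_mul, map_zero, zero_div]

/-- The reduced corner is commutative. -/
theorem red_corner_comm (x y : MonoidAlgebra (ResK M) G) :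
    ModRep.red hM (primIdem hM S i) * x * ModRep.red hM (primIdem hM S i) * y *
        ModRep.red hM (primIdem hM S i) =
      ModRep.red hM (primIdem hM S i) * y * ModRep.red hM (primIdem hM S i) * x *
        ModRep.red hM (primIdem hM S i) := by
  induction x using MonoidAlgebra.induction_on with
  | of g =>
    induction y using MonoidAlgebra.induction_on with
    | of h =>
      have hl := isLoc_primIdem hM S i
      have hs := fun g => isLoc_single (hM := hM) (G := G) g
      have key := congrArg (ModRep.red hM) (hd.corner_comm (single g 1) (single h 1))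
      rw [red_mul (((hl.mul (hs _)).mul hl).mul (hs _)) hl, red_mul ((hl.mul (hs _)).mul hl) (hs _),
        red_mul (hl.mul (hs _)) hl, red_mul hl (hs _),
        red_mul (((hl.mul (hs _)).mul hl).mul (hs _)) hl, red_mul ((hl.mul (hs _)).mul hl) (hs _),
        red_mul (hl.mul (hs _)) hl, red_mul hl (hs _), red_single, red_single] at key
      simpa using key
    | add u v hu hv => simp only [mul_add, add_mul, hu, hv]
    | smul r u hu => simp only [mul_smul_comm, smul_mul_assoc, hu]
  | add u v hu hv => simp only [mul_add, add_mul, hu, hv]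
  | smul r u hu => simp only [mul_smul_comm, smul_mul_assoc, hu]

theorem f_idem : ModRep.red hM (primIdem hM S i) * ModRep.red hM (primIdem hM S i) =
    ModRep.red hM (primIdem hM S i) := by
  rw [← red_mul (isLoc_primIdem hM S i) (isLoc_primIdem hM S i), primIdem_idem]

theorem e_idem : eG hM B * eG hM B = eG hM B := by
  rw [eG_eq_red]; exact red_blockIdem_idem (isLoc_blockIdem hd.block)

theorem e_comm (x : MonoidAlgebra (ResK M) G) : eG hM B * x = x * eG hM B := by
  rw [eG_eq_red]; exact red_comm_blockIdem (isLoc_blockIdem hd.block) x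

theorem pi_eG : S.π (eG hM B) = Pi.single i 1 := by
  classical
  funext j
  rcases eq_or_ne j i with rfl | hj
  · rw [Pi.single_eq_same]
    have h : algRep (S.rep j) (eG hM B) = 1 := hd.mem_idx
    rw [Sys.algRep_rep] at h
    exact Matrix.toLin'.injective (h.trans Matrix.toLin'_one.symm)
  · rw [Pi.single_eq_of_ne hj]
    have h : algRep (S.rep j) (eG hM B) ≠ 1 := fun h => hj (by
      have : j ∈ blockIdx S hM B := h
      rwa [hd.idx, Set.mem_singleton_iff] at this)
    have h' := ((S.isSimp_rep j).idem_comm hd.e_idem fun g => (hd.e_comm _).symm).resolve_right h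
    rw [Sys.algRep_rep] at h'
    exact (map_eq_zero_iff _ Matrix.toLin'.injective).1 h'

theorem pi_f : S.π (ModRep.red hM (primIdem hM S i)) =
    Pi.single i (Matrix.single ⟨0, S.pos i⟩ ⟨0, S.pos i⟩ 1) :=
  red_primIdem hM S i

theorem f_le : eG hM B * ModRep.red hM (primIdem hM S i) = ModRep.red hM (primIdem hM S i) := by
  classical
  set e := eG hM B
  set f := ModRep.red hM (primIdem hM S i)
  have hfe : e * f = f * e := hd.e_comm f
  have hn : IsNilpotent (f - e * f) := S.nil _ (by
    rw [map_sub, map_mul, hd.pi_eG, hd.pi_f, ← Pi.single_mul, one_mul, sub_self])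
  have hi : (f - e * f) * (f - e * f) = f - e * f := by
    have h1 : f * (e * f) = e * f := by rw [← mul_assoc, ← hfe, mul_assoc, hd.f_idem]
    have h2 : e * f * (e * f) = e * f := by rw [mul_assoc, h1, ← mul_assoc, hd.e_idem]
    rw [sub_mul, mul_sub, mul_sub, hd.f_idem, h1, h2, mul_assoc, hd.f_idem]
    abel
  exact (sub_eq_zero.1 (eq_zero_of_nilpotent_idem hn hi)).symm

/-- Matrix units over the corner. -/
theorem exists_units : ∃ u v : Fin (S.d i) → MonoidAlgebra (ResK M) G,
    (∀ r, eG hM B * u r = u r) ∧ (∀ r, v r * eG hM B = v r) ∧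
    (∑ r, u r * ModRep.red hM (primIdem hM S i) * v r = eG hM B) ∧
    (∀ r, S.π (u r) i = Matrix.single r ⟨0, S.pos i⟩ 1) ∧
    (∀ r, S.π (v r) i = Matrix.single ⟨0, S.pos i⟩ r 1) := by
  classical
  set o : Fin (S.d i) := ⟨0, S.pos i⟩
  set e := eG hM B with he
  set f := ModRep.red hM (primIdem hM S i)
  have hee : e * e = e := hd.e_idem
  choose u' hu' using fun r => S.surj (Pi.single i (Matrix.single r o 1))
  choose v' hv' using fun r => S.surj (Pi.single i (Matrix.single o r 1))
  set w := ∑ r, u' r * f * v' r with hw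
  have hπw : S.π w = S.π e := by
    rw [hw, he, hd.pi_eG, map_sum]
    simp only [map_mul, hd.pi_f, hu', hv', f, ← Pi.single_mul, o]
    funext j
    rcases eq_or_ne j i with rfl | hj
    · simp only [Finset.sum_apply, Pi.single_eq_same]
      ext a b
      by_cases hab : a = b <;>
        simp [Matrix.sum_apply, Matrix.mul_apply, Matrix.single_apply, Matrix.one_apply, hab, ite_and, eq_comm] 
    · simp [Pi.single_eq_of_ne hj]
  set n := e - e * w with hn
  have hen : e * n = n := by rw [hn, mul_sub, hee, ← mul_assoc, hee]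
  have hnil : IsNilpotent n := S.nil _ (by
    rw [hn, map_sub, map_mul, hπw, ← map_mul, hee, sub_self])
  obtain ⟨U, hU⟩ := hnil.isUnit_one_sub
  have hew : ↑U * e = e * w := by
    rw [hU, sub_mul, one_mul, ← hd.e_comm n, hen, hn, sub_sub_cancel]
  have hinv : (↑U⁻¹ : MonoidAlgebra (ResK M) G) * (e * w) = e := by
    rw [← hew, Units.inv_mul_cancel_left]
  have hπU : S.π (↑U⁻¹ : MonoidAlgebra (ResK M) G) = 1 := by
    have h1 : S.π (↑U : MonoidAlgebra (ResK M) G) = 1 := by
      rw [hU, map_sub, map_one, hn, map_sub, map_mul, hπw, ← map_mul, hee, sub_self,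
        sub_zero]
    calc S.π (↑U⁻¹ : MonoidAlgebra (ResK M) G) = S.π (↑U⁻¹ : MonoidAlgebra (ResK M) G) * S.π ↑U := by
          rw [h1, mul_one]
      _ = 1 := by rw [← map_mul, Units.inv_mul, map_one]
  have hπe : S.π e i = 1 := by rw [he, hd.pi_eG, Pi.single_eq_same]
  refine ⟨fun r => e * ↑U⁻¹ * e * u' r, fun r => v' r * e, fun r => ?_, fun r => ?_, ?_,
    fun r => ?_, fun r => ?_⟩
  · simp only [← mul_assoc, hee]
  · simp only [mul_assoc, hee]
  · calc ∑ r, e * ↑U⁻¹ * e * u' r * f * (v' r * e) = e * (↑U⁻¹ * (e * w)) * e := by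
          rw [hw, Finset.mul_sum, Finset.mul_sum, Finset.mul_sum, Finset.sum_mul]
          exact Finset.sum_congr rfl fun r _ => by simp only [mul_assoc]
      _ = e := by rw [hinv, hee, hee]
  · simp only [map_mul, Pi.mul_apply, hπe, hπU, Pi.one_apply, one_mul, hu', Pi.single_eq_same]
  · simp only [map_mul, Pi.mul_apply, hπe, mul_one, hv', Pi.single_eq_same]

/-- A central element killed by the nilpotent central elements is given by the trace. -/
theorem coeff_eq_trace {z : MonoidAlgebra (ResK M) G} (hzc : ∀ x, z * x = x * z)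
    (hze : eG hM B * z = z)
    (hkill : ∀ w : MonoidAlgebra (ResK M) G, (∀ x, w * x = x * w) → IsNilpotent w → z * w = 0)
    (g : G) :
    z.coeff g = (S.π (single g⁻¹ 1) i).trace * (z * ModRep.red hM (primIdem hM S i)).coeff 1 := by
  classical
  obtain ⟨u, v, hu, hv, hsum, hπu, hπv⟩ := hd.exists_units
  set e := eG hM B with he
  set f := ModRep.red hM (primIdem hM S i) with hf
  set o : Fin (S.d i) := ⟨0, S.pos i⟩ with ho
  have hff : f * f = f := hd.f_idem
  have hcom : ∀ a b, f * a * f = a → f * b * f = b → a * b = b * a := by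
    intro a b ha hb
    have h := hd.red_corner_comm a b
    have e1 : f * a * f * b * f = a * b := by
      calc f * a * f * b * f = f * a * (f * f) * b * f := by rw [hff]
        _ = (f * a * f) * (f * b * f) := by simp only [mul_assoc]
        _ = a * b := by rw [ha, hb]
    have e2 : f * b * f * a * f = b * a := by
      calc f * b * f * a * f = f * b * (f * f) * a * f := by rw [hff]
        _ = (f * b * f) * (f * a * f) := by simp only [mul_assoc]
        _ = b * a := by rw [ha, hb]
    rw [← e1, ← e2]; exact h
  have hfl : ∀ x, f * (f * x * f) * f = f * x * f := fun x => by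
    simp only [← mul_assoc, hff]
    rw [mul_assoc, hff]
  have hleft : ∀ a, f * a * f = a → f * a = a := fun a ha => by
    rw [← ha, ← mul_assoc, ← mul_assoc, hff]
  have hright : ∀ a, f * a * f = a → a * f = a := fun a ha => by
    rw [← ha, mul_assoc, hff]
  -- the inclusion of the corner in the centre
  let Φ : MonoidAlgebra (ResK M) G → MonoidAlgebra (ResK M) G := fun a => ∑ r, u r * a * v r
  have hΦc : ∀ a, f * a * f = a → ∀ x, Φ a * x = x * Φ a := by
    intro a ha x
    symm
    have hfv : ∀ r s, (f * (v s * x * u r) * f) * a = a * (f * (v s * x * u r) * f) := fun r s =>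
      hcom _ _ (hfl _) ha
    calc x * Φ a = ∑ r, (e * (x * u r)) * a * v r := by
          simp only [Φ, Finset.mul_sum]
          refine Finset.sum_congr rfl fun r _ => ?_
          rw [← mul_assoc e, hd.e_comm x, mul_assoc x, hu]
          simp only [mul_assoc]
      _ = ∑ r, ∑ s, u s * ((f * (v s * x * u r) * f) * a) * v r := by
          refine Finset.sum_congr rfl fun r _ => ?_
          rw [← hsum, Finset.sum_mul, Finset.sum_mul, Finset.sum_mul]
          refine Finset.sum_congr rfl fun s _ => ?_
          conv_lhs => rw [← hleft a ha]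
          simp only [mul_assoc]
      _ = ∑ s, ∑ r, u s * (a * (f * (v s * x * u r) * f)) * v r := by
          rw [Finset.sum_comm]
          simp only [hfv]
      _ = ∑ s, u s * a * v s * x * e := by
          refine Finset.sum_congr rfl fun s _ => ?_
          rw [← hsum, Finset.mul_sum]
          refine Finset.sum_congr rfl fun r _ => ?_
          rw [← mul_assoc a, ← mul_assoc a, hright a ha]
          simp only [mul_assoc]
      _ = Φ a * x := by
          simp only [Φ, Finset.sum_mul]
          refine Finset.sum_congr rfl fun s _ => ?_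
          rw [mul_assoc _ x e, ← hd.e_comm x, ← mul_assoc, mul_assoc _ (v s) e, hv]
  have hΦmul : ∀ a b, f * a * f = a → f * b * f = b → Φ a * Φ b = Φ (a * b) := by
    intro a b ha hb
    calc Φ a * Φ b = ∑ r, ∑ s, u r * (a * ((f * (v r * u s) * f) * b)) * v s := by
          simp only [Φ, Finset.sum_mul, Finset.mul_sum]
          rw [Finset.sum_comm]
          refine Finset.sum_congr rfl fun r _ => Finset.sum_congr rfl fun s _ => ?_
          conv_lhs => rw [← hright a ha, ← hleft b hb]
          simp only [mul_assoc]
      _ = ∑ r, ∑ s, u r * (a * b * (f * (v r * u s) * f)) * v s := by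
          refine Finset.sum_congr rfl fun r _ => Finset.sum_congr rfl fun s _ => ?_
          rw [hcom _ b (hfl _) hb, ← mul_assoc a b]
      _ = ∑ r, u r * (a * b) * v r * e := by
          refine Finset.sum_congr rfl fun r _ => ?_
          rw [← hsum, Finset.mul_sum]
          refine Finset.sum_congr rfl fun s _ => ?_
          rw [← mul_assoc (a * b), ← mul_assoc (a * b), mul_assoc a b f, hright b hb]
          simp only [mul_assoc]
      _ = Φ (a * b) := by
          refine Finset.sum_congr rfl fun r _ => ?_
          rw [mul_assoc _ (v r) e, hv]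
  have hΦf : ∀ a, f * a * f = a → f * Φ a * f = a := by
    intro a ha
    have hfu : ∀ r, (f * u r * f) * a = a * (f * u r * f) := fun r => hcom _ _ (hfl _) ha
    calc f * Φ a * f = ∑ r, ((f * u r * f) * a) * (f * v r * f) := by
          simp only [Φ, Finset.mul_sum, Finset.sum_mul]
          refine Finset.sum_congr rfl fun r _ => ?_
          conv_lhs => rw [← ha]
          simp only [← mul_assoc]
      _ = a * (f * e * f) := by
          simp only [hfu, ← hsum, Finset.mul_sum, Finset.sum_mul]
          refine Finset.sum_congr rfl fun r _ => ?_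
          simp only [← mul_assoc]
          simp only [mul_assoc _ f f, hff]
      _ = a := by rw [mul_assoc f e f, hd.f_le, hff, hright a ha]
  -- nilpotents of the corner are killed
  have hnilk : ∀ a, f * a * f = a → IsNilpotent a → z * a = 0 := by
    intro a ha ⟨m, hm⟩
    have hpow : ∀ j : ℕ, f * a ^ (j + 1) * f = a ^ (j + 1) ∧ Φ a ^ (j + 1) = Φ (a ^ (j + 1)) := by
      intro j
      induction j with
      | zero => simp [ha]
      | succ j ih =>
        refine ⟨?_, ?_⟩
        · rw [pow_succ, ← mul_assoc, hleft _ ih.1, mul_assoc, hright a ha]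
        · rw [pow_succ, ih.2, hΦmul _ _ ih.1 ha, ← pow_succ]
    have hnil : IsNilpotent (Φ a) := ⟨m + 1, by
      rw [(hpow m).2, pow_succ, hm, zero_mul]
      simp [Φ]⟩
    have h0 := hkill (Φ a) (hΦc a ha) hnil
    rw [← hΦf a ha, ← mul_assoc, ← mul_assoc, hzc f, mul_assoc f z, h0, mul_zero, zero_mul]
  have hτ : ∀ a b : MonoidAlgebra (ResK M) G, (a * b).coeff 1 = (b * a).coeff 1 := by
    intro a b
    induction b using MonoidAlgebra.induction_on with
    | of g => simp [coeff_mul_single_apply, coeff_single_mul_apply]
    | add u v hu hv => simp [mul_add, add_mul, hu, hv]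
    | smul r u hu => simp [hu]
  set x := single g⁻¹ (1 : ResK M) with hx
  set a := f * (∑ r, v r * x * u r) * f with ha
  have haf : f * a * f = a := hfl _
  have hstep : (z * x).coeff 1 = (z * a).coeff 1 := by
    calc (z * x).coeff 1 = (∑ r, (z * u r * f) * (f * v r * x)).coeff 1 := by
          congr 1
          conv_lhs => rw [← hze, hd.e_comm z, mul_assoc z e x, ← hsum, Finset.sum_mul,
            Finset.mul_sum]
          refine congrArg _ (Finset.sum_congr rfl fun r _ => ?_)
          conv_lhs => rw [← hff]
          simp only [mul_assoc]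
      _ = (∑ r, (f * v r * x) * (z * u r * f)).coeff 1 := by
          simp only [coeff_sum, Finsupp.finsetSum_apply, hτ]
      _ = (z * a).coeff 1 := by
          congr 1
          rw [ha, Finset.mul_sum, Finset.sum_mul, Finset.mul_sum]
          refine congrArg _ (Finset.sum_congr rfl fun r _ => ?_)
          rw [show f * v r * x * (z * u r * f) = (f * v r * x * z) * (u r * f) by
              simp only [mul_assoc], ← hzc (f * v r * x)]
          simp only [mul_assoc]
  set c := S.π a i o o with hc
  have hnilA : IsNilpotent (a - c • f) := S.nil _ (by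
    rw [map_sub, map_smul, sub_eq_zero]
    funext j
    conv_lhs => rw [← haf]
    rcases eq_or_ne j i with rfl | hj
    · simp only [map_mul, Pi.mul_apply, hd.pi_f, hf, Pi.smul_apply, Pi.single_eq_same, hc]
      exact single_corner _ _
    · simp [hd.pi_f, hf, Pi.single_eq_of_ne hj])
  have hcor : f * (a - c • f) * f = a - c • f := by
    rw [mul_sub, sub_mul, haf, mul_smul_comm, smul_mul_assoc, hff, hff]
  have hza := hnilk _ hcor hnilA
  rw [mul_sub, sub_eq_zero, mul_smul_comm] at hza
  have hct : c = (S.π x i).trace := by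
    simp only [hc, ha, map_mul, map_sum, Pi.mul_apply, Finset.sum_apply, hd.pi_f, hf, hπu, hπv,
      Pi.single_eq_same]
    simp [Matrix.trace, Matrix.mul_apply, Matrix.single_apply, ite_and, Finset.sum_apply,
      Matrix.sum_apply, ho]
  calc z.coeff g = (z * x).coeff 1 := by simp [hx, coeff_mul_single_apply]
    _ = _ := by rw [hstep, hza, coeff_smul_apply, smul_eq_mul, hct]

end Data

end CfsgLib.EqualDegree
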