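import Cfsg.Agent.Lib.ModRep.Decomp
import Cfsg.Agent.Lib.ModRep.Integral
import Cfsg.Agent.Lib.Blocks12.Bounds

/-!
# Blocks of height zero with all degrees equal

There is a single Brauer character, every decomposition number is `1` and `k(B) = p ^ d`.
-/

set_option autoImplicit false
set_option linter.unusedSectionVars false
set_option linter.style.haveILetI false

namespace CfsgLib.EqualDegree

open Cfsg MonoidAlgebra CfsgLib.Blocks CfsgLib.BrauerPairs CfsgLib.Characters CfsgLib.ModRep
  CfsgLib.Contribution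
open scoped ComplexConjugate

universe u

variable {G : Type u} [Group G] [Fintype G] {p : ℕ} [hp : Fact p.Prime] {M : Ideal AlgInt}
  [M.IsMaximal] {B : Set (IrrCharacter G)}

theorem charDegree_eq_sum (hM : IsPModular p M) (S : Sys (ResK M) G) (χ : IrrCharacter G) :
    charDegree (χ : G → ℂ) = ∑ i : Fin S.s, decomp hM S χ i * S.d i := by
  apply Nat.cast_injective (R := ℂ)
  push_cast
  have h := congrFun (pRegularPart_eq_sum hM S χ) 1
  simp only [Finset.sum_apply, Pi.smul_apply, smul_eq_mul, modChar_one, Module.finrank_fin_fun,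
    pRegularPart, if_pos (show IsPRegular p (1 : G) by simpa [IsPRegular] using hp.out.ne_one)] at h
  rw [← h, (CfsgLib.ClassCount.degree_eq χ).1]

/-- A common degree divides the dimensions of the simple modules of the block. -/
theorem dvd_dim (hM : IsPModular p M) (S : Sys (ResK M) G) (hB : IsPBlock M B) {d : ℕ}
    (hdeg : ∀ χ ∈ B, charDegree (χ : G → ℂ) = d) {i : Fin S.s} (hi : i ∈ blockIdx S hM B) :
    d ∣ S.d i := by
  classical
  set φ := fun i => modChar hM (S.rep i)
  set r := fun ψ : IrrCharacter G => pRegularPart p (ψ : G → ℂ)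
  obtain ⟨a, ha⟩ := exists_int_comb (hM := hM) (S.rep i)
  have hspan := span_blockIdx (hM := hM) S hB
  have hsplit : φ i = ∑ ψ ∈ Finset.univ.filter (· ∈ B), (a ψ : ℂ) • r ψ := by
    have hrest : φ i - ∑ ψ ∈ Finset.univ.filter (· ∈ B), (a ψ : ℂ) • r ψ =
        ∑ ψ ∈ Finset.univ.filter (fun ψ => ¬ ψ ∈ B), (a ψ : ℂ) • r ψ := by
      simp only [φ, ha]
      rw [← Finset.sum_filter_add_sum_filter_not Finset.univ (· ∈ B)]
      abel
    rw [← sub_eq_zero]
    refine Submodule.disjoint_def.1 ((modChar_linearIndependent (hM := hM) S).disjoint_span_image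
      (disjoint_compl_right (a := blockIdx S hM B))) _ ?_ ?_
    · refine Submodule.sub_mem _ (Submodule.subset_span ⟨i, hi, rfl⟩) ?_
      rw [← hspan]
      exact Submodule.sum_mem _ fun ψ hψ => Submodule.smul_mem _ _
        (Submodule.subset_span ⟨ψ, (Finset.mem_filter.1 hψ).2, rfl⟩)
    · rw [hrest]
      refine Submodule.sum_mem _ fun ψ hψ => Submodule.smul_mem _ _ ?_
      have hψB := (Finset.mem_filter.1 hψ).2
      have hB' : IsPBlock M (blockOf M (ψ : G → ℂ)) := isPBlock_blockOf ψ
      have h1 : r ψ ∈ Submodule.span ℂ ((fun i => modChar hM (S.rep i)) ''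
          blockIdx S hM (blockOf M (ψ : G → ℂ))) := by
        rw [← span_blockIdx (hM := hM) S hB']
        exact Submodule.subset_span ⟨ψ, mem_blockOf_self hM ψ, rfl⟩
      refine Submodule.span_mono (Set.image_mono ?_) h1
      intro j hj hjB
      apply hψB
      rw [isSimp_inBlock_unique (hM := hM) (S.isSimp_rep j) hB hB' hjB hj]
      exact mem_blockOf_self hM ψ
  have h1 := congrFun hsplit 1
  have hreg : IsPRegular p (1 : G) := by simpa [IsPRegular] using hp.out.ne_one
  simp only [φ, r, Finset.sum_apply, Pi.smul_apply, smul_eq_mul, pRegularPart, if_pos hreg,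
    modChar_one, Module.finrank_fin_fun] at h1
  rw [Finset.sum_congr rfl fun ψ hψ => by
    rw [(CfsgLib.ClassCount.degree_eq ψ).1, hdeg ψ (Finset.mem_filter.1 hψ).2]] at h1
  rw [← Finset.sum_mul] at h1
  have h2 : (S.d i : ℤ) = (∑ ψ ∈ Finset.univ.filter (· ∈ B), a ψ) * (d : ℤ) := by exact_mod_cast h1
  exact Int.natCast_dvd_natCast.1 (Dvd.intro_left _ h2.symm)

/-- Each member has a single constituent. -/
theorem exists_constituent (hM : IsPModular p M) (S : Sys (ResK M) G) (hB : IsPBlock M B) {d : ℕ}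
    (hdeg : ∀ χ ∈ B, charDegree (χ : G → ℂ) = d) {χ : IrrCharacter G} (hχ : χ ∈ B) :
    ∃ i ∈ blockIdx S hM B, decomp hM S χ i = 1 ∧ S.d i = d ∧
      ∀ j, j ≠ i → decomp hM S χ j = 0 := by
  classical
  have hsum := charDegree_eq_sum hM S χ
  rw [hdeg χ hχ] at hsum
  have hd : 0 < d := hdeg χ hχ ▸ (CfsgLib.ClassCount.degree_eq χ).2.2
  obtain ⟨i, -, hi⟩ := Finset.exists_ne_zero_of_sum_ne_zero (hsum ▸ hd.ne')
  have hne : decomp hM S χ i ≠ 0 := fun h => hi (by rw [h, zero_mul])
  have hiB : i ∈ blockIdx S hM B := by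
    by_contra h
    exact hne (decomp_eq_zero hM S hB fun hiff => h (hiff.1 hχ))
  have hle : d ≤ S.d i := Nat.le_of_dvd (S.pos i) (dvd_dim hM S hB hdeg hiB)
  have h1 : S.d i ≤ decomp hM S χ i * S.d i := Nat.le_mul_of_pos_left _ (Nat.pos_of_ne_zero hne)
  rw [← Finset.add_sum_erase _ _ (Finset.mem_univ i)] at hsum
  have h2 : decomp hM S χ i * S.d i = S.d i := by omega
  refine ⟨i, hiB, ?_, by omega, fun j hj => ?_⟩
  · exact Nat.eq_of_mul_eq_mul_right (S.pos i) (by rw [h2, one_mul])
  · have h3 := (Finset.sum_eq_zero_iff).1 (show ∑ j ∈ Finset.univ.erase i,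
      decomp hM S χ j * S.d j = 0 by omega) j (Finset.mem_erase.2 ⟨hj, Finset.mem_univ j⟩)
    exact (mul_eq_zero.1 h3).resolve_right (S.pos j).ne'

/-- The data of such a block. -/
structure Data (hM : IsPModular p M) (S : Sys (ResK M) G) (B : Set (IrrCharacter G))
    (i : Fin S.s) : Prop where
  block : IsPBlock M B
  decomp_eq_one : ∀ χ ∈ B, decomp hM S χ i = 1
  idx : blockIdx S hM B = {i}
  part : ∀ χ ∈ B, pRegularPart p (χ : G → ℂ) = modChar hM (S.rep i)
  card : Nat.card B = p ^ blockDefect p B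

theorem exists_data (hM : IsPModular p M) (S : Sys (ResK M) G) (hB : IsPBlock M B) {d : ℕ}
    (hdeg : ∀ χ ∈ B, charDegree (χ : G → ℂ) = d) : ∃ i, Data hM S B i := by
  classical
  haveI : Fintype (ConjClasses G) := Fintype.ofFinite _
  obtain ⟨χ₀, hχ₀, h0, -⟩ := exists_height_zero hM hB
  obtain ⟨i, hi, hi1, -, hi0⟩ := exists_constituent hM S hB hdeg hχ₀
  have hpart : ∀ χ ∈ B, ∀ j, decomp hM S χ j ≠ 0 →
      decomp hM S χ j = 1 ∧ pRegularPart p (χ : G → ℂ) = modChar hM (S.rep j) := by
    intro χ hχ j hj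
    obtain ⟨l, -, hl1, -, hl0⟩ := exists_constituent hM S hB hdeg hχ
    obtain rfl : j = l := by_contra fun h => hj (hl0 j h)
    refine ⟨hl1, ?_⟩
    rw [pRegularPart_eq_sum hM S χ, Finset.sum_eq_single j
      (fun b _ hb => by rw [hl0 b hb, Nat.cast_zero, zero_smul]) (by simp), hl1, Nat.cast_one,
      one_smul]
  have hmemB : ∀ χ, decomp hM S χ i ≠ 0 → χ ∈ B := fun χ hχ => by
    by_contra h
    exact hχ (decomp_eq_zero hM S hB fun hiff => h (hiff.2 hi))
  set k := ∑ χ : IrrCharacter G, decomp hM S χ i with hk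
  have hφ : pRegularPart p (χ₀ : G → ℂ) = modChar hM (S.rep i) :=
    (hpart χ₀ hχ₀ i (by rw [hi1]; exact one_ne_zero)).2
  have hpim : pimChar hM S i = (k : ℂ) • pRegularPart p (χ₀ : G → ℂ) := by
    funext g
    rw [Pi.smul_apply, smul_eq_mul, pimChar_apply]
    by_cases hg : p ∣ orderOf g
    · rw [← pimChar_apply, pimChar_singular hM S i hg, pRegularPart, if_neg fun h => h hg,
        mul_zero]
    · rw [hk, Nat.cast_sum, Finset.sum_mul]
      refine Finset.sum_congr rfl fun χ _ => ?_
      by_cases hd0 : decomp hM S χ i = 0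
      · rw [hd0, Nat.cast_zero, zero_mul, zero_mul]
      · have h := congrFun ((hpart χ (hmemB χ hd0) i hd0).2.trans hφ.symm) g
        simp only [pRegularPart, if_pos (show IsPRegular p g from hg)] at h
        rw [pRegularPart, if_pos (show IsPRegular p g from hg), h]
  have hinner : ∀ ψ : IrrCharacter G, classInner (pimChar hM S i) (ψ : G → ℂ) =
      (decomp hM S ψ i : ℂ) := by
    intro ψ
    rw [pimChar, classInner_sum_left, Finset.sum_eq_single ψ]
    · rw [classInner_smul_left, classInner_irr, if_pos rfl, mul_one]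
    · intro b _ hb
      rw [classInner_smul_left, classInner_irr, if_neg hb, mul_zero]
    · simp
  have hcon : ∀ ψ ∈ B,
      (k : ℂ) * (contribInt p B χ₀ ψ : ℂ) = (p : ℂ) ^ blockDefect p B * (decomp hM S ψ i : ℂ) := by
    intro ψ hψ
    rw [← hinner ψ, hpim, classInner_smul_left, contribInt_cast hM hB χ₀ hψ, contrib, classInner,
      Contribution.regSum, Finset.sum_filter]
    have : ∀ g : G, pRegularPart p (χ₀ : G → ℂ) g * conj ((ψ : G → ℂ) g) =
        if ¬ p ∣ orderOf g then (χ₀ : G → ℂ) g * conj ((ψ : G → ℂ) g) else 0 := fun g => by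
      by_cases hg : p ∣ orderOf g <;> simp [pRegularPart, IsPRegular, hg]
    simp only [this]
    ring
  have hkpos : k ≠ 0 := fun h => by
    have := hcon χ₀ hχ₀
    rw [h, hi1, Nat.cast_zero, zero_mul, Nat.cast_one, mul_one] at this
    exact pow_ne_zero _ (Nat.cast_ne_zero.2 hp.out.ne_zero) this.symm
  have hone : ∀ ψ ∈ B, decomp hM S ψ i = 1 := by
    intro ψ hψ
    refine (hpart ψ hψ i fun h => ?_).1
    have h1 := hcon ψ hψ
    rw [h, Nat.cast_zero, mul_zero, mul_eq_zero] at h1
    rcases h1 with h1 | h1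
    · exact hkpos (by exact_mod_cast h1)
    · exact contribInt_zero_ne hM hB hχ₀ h0 hψ (by exact_mod_cast h1)
  have hkB : k = Nat.card B := by
    rw [hk, Nat.card_eq_fintype_card, Fintype.card_subtype, Finset.card_eq_sum_ones,
      Finset.sum_filter]
    refine Finset.sum_congr rfl fun χ _ => ?_
    by_cases hχ : χ ∈ B
    · rw [if_pos hχ, hone χ hχ]
    · rw [if_neg hχ]
      by_contra h
      exact hχ (hmemB χ h)
  refine ⟨i, hB, hone, ?_, fun χ hχ => (hpart χ hχ i (by rw [hone χ hχ]; exact one_ne_zero)).2, ?_⟩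
  · have hr : blockRank p B = 1 := by
      rw [blockRank, show (fun χ : IrrCharacter G => pRegularPart p (χ : G → ℂ)) '' B =
        {modChar hM (S.rep i)} from Set.eq_singleton_iff_unique_mem.2 ⟨⟨χ₀, hχ₀, hφ⟩, by
          rintro _ ⟨χ, hχ, rfl⟩
          exact (hpart χ hχ i (by rw [hone χ hχ]; exact one_ne_zero)).2⟩]
      exact finrank_span_singleton fun h => (S.pos i).ne' (by
        have := congrFun h 1
        rw [modChar_one, Module.finrank_fin_fun, Pi.zero_apply] at this
        exact_mod_cast this)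
    rw [← ncard_blockIdx (hM := hM) S hB, Nat.card_coe_set_eq, Set.ncard_eq_one] at hr
    obtain ⟨j, hj⟩ := hr
    rw [hj] at hi ⊢
    rw [Set.mem_singleton_iff.1 hi]
  · set c := contribInt p B χ₀ χ₀ with hc
    have hkc : (k : ℤ) * c = (p : ℤ) ^ blockDefect p B := by
      have h := hcon χ₀ hχ₀
      rw [hi1, Nat.cast_one, mul_one] at h
      exact_mod_cast h
    have hnd : ¬ (p : ℤ) ∣ c := by
      intro h
      have h1 : MemLocalIdeal M (c : ℂ) := (memLocalIdeal_intCast_iff hM _).2 h
      rw [hc, contribInt_cast hM hB χ₀ hχ₀, contrib_eq hM hB χ₀ hχ₀] at h1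
      exact BlockCover.not_memLocalIdeal_mul hM (natCast_mem (lRing hM) _) (tfac_mem hM _ _)
        (fun h' => h0 ((memLocalIdeal_natCast_iff hM _).1 h')) (tfac_unit hM hB hχ₀ h0 hχ₀) h1
    have h2 : k * c.natAbs = p ^ blockDefect p B := by
      have := congrArg Int.natAbs hkc
      simpa [Int.natAbs_mul, Int.natAbs_pow] using this
    have h3 : c.natAbs = 1 := by
      obtain ⟨j, -, hj⟩ := (Nat.dvd_prime_pow hp.out).1 ⟨k, by rw [← h2, mul_comm]⟩
      rcases Nat.eq_zero_or_pos j with rfl | hj0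
      · rw [hj, pow_zero]
      · exact absurd (Int.natCast_dvd.2 (hj ▸ dvd_pow_self p hj0.ne')) hnd
    rw [← hkB, ← h2, h3, mul_one]

end CfsgLib.EqualDegree
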